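import Groth.Agent.Blanchard.Constant
import Mathlib.AlgebraicGeometry.ValuativeCriterion
import Mathlib.RingTheory.PowerSeries.Substitution
import Mathlib.RingTheory.PowerSeries.Inverse

/-! Fixed points of actions on proper schemes: extending an orbit map over `K⟦s⟧` at infinity. -/

universe u

open CategoryTheory MonoidalCategory CartesianMonoidalCategory MonObj GrpObj AlgebraicGeometry

noncomputable section

namespace Groth.Agent.GaFix

variable {k : Type u} [Field k]

abbrev kPt {A : Type u} [CommRing A] (φ : k →+* A) : Over (Spec (CommRingCat.of k)) :=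
  Over.mk (Spec.map (CommRingCat.ofHom φ))

def ptMap {A B : Type u} [CommRing A] [CommRing B] (φ : k →+* A) (ψ : k →+* B) (f : A →+* B)
    (h : f.comp φ = ψ) : kPt ψ ⟶ kPt φ :=
  Over.homMk (Spec.map (CommRingCat.ofHom f)) (by
    subst h
    simp [← Spec.map_comp, ← CommRingCat.ofHom_comp])

theorem ptMap_comp {A B C : Type u} [CommRing A] [CommRing B] [CommRing C] {φ : k →+* A} {ψ : k →+* B}
    {χ : k →+* C} (f : A →+* B) (g : B →+* C) (hf : f.comp φ = ψ) (hg : g.comp ψ = χ) :
    ptMap ψ χ g hg ≫ ptMap φ ψ f hf = ptMap φ χ (g.comp f) (by rw [RingHom.comp_assoc, hf, hg]) := by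
  ext1
  exact (Spec.map_comp _ _).symm

theorem ptMap_congr {A B : Type u} [CommRing A] [CommRing B] {φ : k →+* A} {ψ : k →+* B}
    {f g : A →+* B} (hf : f.comp φ = ψ) (hg : g.comp φ = ψ) (h : f = g) :
    ptMap φ ψ f hf = ptMap φ ψ g hg := by subst h; rfl

theorem ptMap_id {A : Type u} [CommRing A] (φ : k →+* A) : ptMap φ φ (RingHom.id A) (RingHom.id_comp φ) = 𝟙 _ := by
  ext1
  exact Spec.map_id _

variable {K : Type u} [Field K] (φ : k →+* K)

abbrev Frac (K : Type u) [Field K] : Type u := FractionRing (PowerSeries K)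

abbrev phiO : k →+* PowerSeries K := PowerSeries.C.comp φ

abbrev phiL : k →+* Frac K := (algebraMap (PowerSeries K) (Frac K)).comp (phiO φ)

abbrev pO : kPt (phiO φ) ⟶ kPt φ := ptMap _ _ PowerSeries.C rfl

abbrev jL : kPt (phiL φ) ⟶ kPt (phiO φ) := ptMap _ _ (algebraMap (PowerSeries K) (Frac K)) rfl

abbrev cl : kPt φ ⟶ kPt (phiO φ) :=
  ptMap _ _ PowerSeries.constantCoeff (RingHom.ext fun x => PowerSeries.constantCoeff_C (φ x))

theorem cl_pO : cl φ ≫ pO φ = 𝟙 _ := by
  rw [ptMap_comp, ← ptMap_id]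
  exact ptMap_congr _ _ (RingHom.ext fun x => PowerSeries.constantCoeff_C x)

/-- The point at infinity of the coordinate line, `s⁻¹`. -/
def tInf (K : Type u) [Field K] : Frac K := (algebraMap (PowerSeries K) (Frac K) PowerSeries.X)⁻¹

variable {G X : Over (Spec (CommRingCat.of k))} [GrpObj G]

theorem exists_lift [IsProper X.hom] (o : kPt (phiL φ) ⟶ X) : ∃ γ : kPt (phiO φ) ⟶ X, jL φ ≫ γ = o := by
  have hv : ValuativeCriterion X.hom := by
    have h : IsProper X.hom := inferInstance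
    rw [IsProper.eq_valuativeCriterion] at h
    exact h.1.1.1
  have w : o.left ≫ X.hom = Spec.map (CommRingCat.ofHom (algebraMap (PowerSeries K) (Frac K))) ≫
      (kPt (phiO φ)).hom := (Over.w o).trans (Over.w (jL φ)).symm
  obtain ⟨l, h1, h2⟩ := (hv.existence { R := PowerSeries K, K := Frac K, commSq := ⟨w⟩, .. }).exists_lift
  exact ⟨Over.homMk l h2, Over.OverMorphism.ext h1⟩

theorem lift_ext [IsProper X.hom] {γ γ' : kPt (phiO φ) ⟶ X} (h : jL φ ≫ γ = jL φ ≫ γ') : γ = γ' := by
  have : IsDominant (jL φ).left :=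
    ⟨(PrimeSpectrum.denseRange_comap_iff_ker_le_nilRadical _).mpr fun p hp => by
      rw [IsFractionRing.injective (PowerSeries K) (Frac K) (hp.trans (map_zero _).symm)]
      exact zero_mem _⟩
  haveI : IsReduced (kPt (phiO φ)).left :=
    (inferInstance : IsReduced (Spec (CommRingCat.of (PowerSeries K))))
  exact Over.OverMorphism.ext (ext_of_isDominant_of_isSeparated X.hom ((Over.w γ).trans (Over.w γ').symm)
    (jL φ).left (congrArg CommaMorphism.left h))

/-- The substitution `s ↦ b`, for `b` a nonzero multiple of `s`. -/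
def subS (b : PowerSeries K) (hb : b.constantCoeff = 0) : PowerSeries K →+* PowerSeries K :=
  (PowerSeries.substAlgHom (PowerSeries.HasSubst.of_constantCoeff_zero' hb)).toRingHom

variable (b : PowerSeries K) (hb : b.constantCoeff = 0)

theorem subS_C (r : K) : subS b hb (PowerSeries.C r) = PowerSeries.C r :=
  (PowerSeries.substAlgHom (PowerSeries.HasSubst.of_constantCoeff_zero' hb)).commutes r

theorem subS_X : subS b hb PowerSeries.X = b :=
  PowerSeries.substAlgHom_X (PowerSeries.HasSubst.of_constantCoeff_zero' hb)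

theorem constantCoeff_subS (f : PowerSeries K) : (subS b hb f).constantCoeff = f.constantCoeff := by
  conv_lhs => rw [PowerSeries.eq_X_mul_shift_add_const f]
  rw [map_add, map_mul, subS_X, subS_C, map_add, map_mul, hb, zero_mul, zero_add, PowerSeries.constantCoeff_C]

theorem subS_injective (hb0 : b ≠ 0) : Function.Injective (subS b hb) := by
  refine (injective_iff_map_eq_zero _).mpr fun f hf => by_contra fun h0 => ?_
  obtain ⟨n, v, rfl⟩ := IsDiscreteValuationRing.eq_unit_mul_pow_irreducible h0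
    (PowerSeries.X_irreducible (R := K))
  rw [map_mul, map_pow, subS_X] at hf
  exact (mul_ne_zero (v.isUnit.map (subS b hb)).ne_zero (pow_ne_zero _ hb0)) hf

variable (hb0 : b ≠ 0)

def subL : Frac K →+* Frac K :=
  IsFractionRing.lift (g := (algebraMap (PowerSeries K) (Frac K)).comp (subS b hb))
    ((IsFractionRing.injective (PowerSeries K) (Frac K)).comp (subS_injective b hb hb0))

theorem subL_algebraMap (f : PowerSeries K) :
    subL b hb hb0 (algebraMap _ _ f) = algebraMap _ _ (subS b hb f) :=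
  IsFractionRing.lift_algebraMap _ f

theorem subL_tInf : subL b hb hb0 (tInf K) = (algebraMap (PowerSeries K) (Frac K) b)⁻¹ := by
  rw [tInf, map_inv₀, subL_algebraMap, subS_X]

abbrev sO : kPt (phiO φ) ⟶ kPt (phiO φ) :=
  ptMap _ _ (subS b hb) (RingHom.ext fun x => subS_C b hb (φ x))

abbrev sL : kPt (phiL φ) ⟶ kPt (phiL φ) :=
  ptMap _ _ (subL b hb hb0) (RingHom.ext fun x => by
    simp [subL_algebraMap, subS_C])

theorem jL_sO : jL φ ≫ sO φ b hb = sL φ b hb hb0 ≫ jL φ := by
  rw [ptMap_comp, ptMap_comp]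
  exact ptMap_congr _ _ (RingHom.ext fun x => (subL_algebraMap b hb hb0 x).symm)

theorem cl_sO : cl φ ≫ sO φ b hb = cl φ := by
  rw [ptMap_comp]
  exact ptMap_congr _ _ (RingHom.ext fun x => constantCoeff_subS b hb x)

include hb0 in
/-- If translating by `g` is a change of parameter fixing infinity, the limit point is fixed by `g`. -/
theorem limit_fixed [IsProper X.hom] (a : AlgGrp.Action G X) (x₀ : 𝟙_ _ ⟶ X)
    (τ : kPt (phiL φ) ⟶ G) (g : kPt φ ⟶ G)
    (hshift : sL φ b hb hb0 ≫ τ = (jL φ ≫ pO φ ≫ g) * τ)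
    (γ : kPt (phiO φ) ⟶ X) (hγ : jL φ ≫ γ = lift τ (toUnit _ ≫ x₀) ≫ a.act) :
    lift g (cl φ ≫ γ) ≫ a.act = cl φ ≫ γ := by
  have key : lift (pO φ ≫ g) γ ≫ a.act = sO φ b hb ≫ γ := by
    apply lift_ext φ
    rw [comp_lift_assoc, hγ, Blanchard.action_comp, ← hshift, ← Category.assoc (jL φ) (sO φ b hb),
      jL_sO φ b hb hb0, Category.assoc, hγ, comp_lift_assoc, ← Category.assoc (sL φ b hb hb0) (toUnit _),
      comp_toUnit]
  have := congrArg (fun m => cl φ ≫ m) key
  simp only [comp_lift_assoc] at this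
  rw [← Category.assoc (cl φ) (pO φ), cl_pO, Category.id_comp, ← Category.assoc (cl φ) (sO φ b hb),
    cl_sO] at this
  exact this

theorem exists_fixed [IsProper X.hom] (a : AlgGrp.Action G X) (x₀ : 𝟙_ _ ⟶ X)
    (A : Type u) [CommRing A] [IsDomain A] (φA : k →+* A) (univ : kPt φA ⟶ G)
    (huniv : ∀ (T : Over (Spec (CommRingCat.of k))) (g : T ⟶ G), ∃ h, h ≫ univ = g)
    (τ : ∀ (K : Type u) [Field K] (φ : k →+* K), kPt (phiL φ) ⟶ G)
    (hnat : ∀ (K : Type u) [Field K] (φ : k →+* K) (q : kPt (phiL φ) ⟶ kPt (phiL (RingHom.id k))),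
      (∃ f : Frac k →+* Frac K, ∃ h, q = ptMap _ _ f h ∧ f (tInf k) = tInf K) → q ≫ τ k (RingHom.id k) = τ K φ)
    (hshift : ∀ (K : Type u) [Field K] (φ : k →+* K) (g : kPt φ ⟶ G),
      ∃ (b : PowerSeries K) (hb : b.constantCoeff = 0) (hb0 : b ≠ 0),
        sL φ b hb hb0 ≫ τ K φ = (jL φ ≫ pO φ ≫ g) * τ K φ) :
    ∃ x : 𝟙_ (Over (Spec (CommRingCat.of k))) ⟶ X, a.IsFixedPt x := by
  obtain ⟨γ₀, hγ₀⟩ := exists_lift (RingHom.id k)
    (lift (τ k (RingHom.id k)) (toUnit _ ≫ x₀) ≫ a.act)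
  let i : 𝟙_ (Over (Spec (CommRingCat.of k))) ⟶ kPt (RingHom.id k) :=
    Over.homMk (𝟙 _) ((Category.id_comp _).trans (Spec.map_id _))
  refine ⟨i ≫ cl (RingHom.id k) ≫ γ₀, fun T g => ?_⟩
  have hi : ∀ {B : Type u} [CommRing B] (ψ : k →+* B),
      toUnit (kPt ψ) ≫ i = ptMap (RingHom.id k) ψ ψ (RingHom.comp_id ψ) := fun ψ =>
    Over.OverMorphism.ext (Category.comp_id _)
  suffices h : lift univ (toUnit _ ≫ i ≫ cl (RingHom.id k) ≫ γ₀) ≫ a.act =
      toUnit _ ≫ i ≫ cl (RingHom.id k) ≫ γ₀ by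
    obtain ⟨m, rfl⟩ := huniv T g
    have := congrArg (fun n => m ≫ n) h
    rw [comp_lift_assoc, ← Category.assoc m (toUnit _), comp_toUnit] at this
    exact this
  let K := FractionRing A
  let φ : k →+* K := (algebraMap A K).comp φA
  let gen : kPt φ ⟶ kPt φA := ptMap _ _ (algebraMap A K) rfl
  have : IsDominant gen.left :=
    ⟨(PrimeSpectrum.denseRange_comap_iff_ker_le_nilRadical _).mpr fun p hp => by
      rw [IsFractionRing.injective A K (hp.trans (map_zero _).symm)]
      exact zero_mem _⟩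
  haveI : IsReduced (kPt φA).left := (inferInstance : IsReduced (Spec (CommRingCat.of A)))
  refine Over.OverMorphism.ext (ext_of_isDominant_of_isSeparated X.hom
    ((Over.w _).trans (Over.w _).symm) gen.left (congrArg CommaMorphism.left (?_ : gen ≫ _ = gen ≫ _)))
  rw [comp_lift_assoc, ← Category.assoc gen (toUnit _), comp_toUnit, ← Category.assoc (toUnit _) i, hi]
  -- base change of the limit from `k` to `K`
  have hinj : Function.Injective ((algebraMap (PowerSeries K) (Frac K)).comp (PowerSeries.map φ)) :=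
    (IsFractionRing.injective (PowerSeries K) (Frac K)).comp (PowerSeries.map_injective φ φ.injective)
  let f : Frac k →+* Frac K := IsFractionRing.lift hinj
  have hf : ∀ p, f (algebraMap _ _ p) = algebraMap _ _ (PowerSeries.map φ p) := fun p =>
    IsFractionRing.lift_algebraMap hinj p
  have hfk : f.comp (phiL (RingHom.id k)) = phiL φ := RingHom.ext fun x => by
    simp [hf, PowerSeries.map_C]
  let q := ptMap _ _ f hfk
  let qO : kPt (phiO φ) ⟶ kPt (phiO (RingHom.id k)) :=
    ptMap _ _ (PowerSeries.map φ) (RingHom.ext fun x => PowerSeries.map_C (f := φ) x)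
  have hq : jL φ ≫ qO = q ≫ jL (RingHom.id k) := by
    rw [ptMap_comp, ptMap_comp]
    exact ptMap_congr _ _ (RingHom.ext fun x => (hf x).symm)
  have hτ : q ≫ τ k (RingHom.id k) = τ K φ :=
    hnat K φ q ⟨f, hfk, rfl, by rw [tInf, map_inv₀, hf, PowerSeries.map_X]; rfl⟩
  obtain ⟨b, hb, hb0, hs⟩ := hshift K φ (gen ≫ univ)
  have hγ : jL φ ≫ qO ≫ γ₀ = lift (τ K φ) (toUnit _ ≫ x₀) ≫ a.act := by
    rw [← Category.assoc, hq, Category.assoc, hγ₀, comp_lift_assoc, hτ, ← Category.assoc q, comp_toUnit]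
  have hfix := limit_fixed φ b hb hb0 a x₀ (τ K φ) (gen ≫ univ) hs (qO ≫ γ₀) hγ
  have hy : cl φ ≫ qO = ptMap (RingHom.id k) φ φ (RingHom.comp_id φ) ≫ cl (RingHom.id k) := by
    rw [ptMap_comp, ptMap_comp]
    exact ptMap_congr _ _ (RingHom.ext fun x => by
      simp [← PowerSeries.coeff_zero_eq_constantCoeff])
  rw [← Category.assoc (cl φ), hy, Category.assoc] at hfix
  exact hfix

end Groth.Agent.GaFix
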