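import Groth.Agent.GaFix.Core
import Groth.Agent.GrpSchLib.GaPts
import Groth.Prelude.Def_GmPts
import Mathlib.Algebra.Polynomial.Laurent

/-! Every action of `Ga` or `Gm` on a proper scheme with a rational point fixes a rational point. -/

universe u

open CategoryTheory MonoidalCategory CartesianMonoidalCategory MonObj GrpObj AlgebraicGeometry Opposite

noncomputable section

namespace Groth.Agent.GaFix

open GrpSchLib (GaPts.gaFn_comp)

variable {k : Type u} [Field k]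

/-- An element of `A` as a global function on `Spec A`. -/
abbrev fn {A : Type u} [CommRing A] (φ : k →+* A) : A →+* Γ((kPt φ).left, ⊤) :=
  (Scheme.ΓSpecIso (CommRingCat.of A)).inv.hom

theorem ptMap_appTop {A B : Type u} [CommRing A] [CommRing B] {φ : k →+* A} {ψ : k →+* B} (f : A →+* B)
    (h : f.comp φ = ψ) (c : A) : (ptMap φ ψ f h).left.appTop (fn φ c) = fn ψ (f c) :=
  (congrArg (fun m => (ConcreteCategory.hom m) c) (Scheme.ΓSpecIso_inv_naturality (CommRingCat.ofHom f))).symm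

/-- The structure map on global functions. -/
abbrev struct (T : Over (Spec (CommRingCat.of k))) : k →+* Γ(T.left, ⊤) :=
  ((Scheme.ΓSpecIso (CommRingCat.of k)).inv ≫ T.hom.appTop).hom

theorem exists_toKPt {A : Type u} [CommRing A] (φ : k →+* A) (T : Over (Spec (CommRingCat.of k)))
    (f : A →+* Γ(T.left, ⊤)) (hf : f.comp φ = struct T) :
    ∃ h : T ⟶ kPt φ, ∀ c, h.left.appTop (fn φ c) = f c := by
  let h0 := ΓSpec.adjunction.homEquiv T.left (op (CommRingCat.of A)) (CommRingCat.ofHom f).op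
  have key : (Scheme.ΓSpecIso (CommRingCat.of A)).inv ≫ h0.appTop = CommRingCat.ofHom f :=
    ΓSpecIso_inv_ΓSpec_adjunction_homEquiv (CommRingCat.ofHom f)
  have hc : ∀ c, h0.appTop (fn φ c) = f c := fun c => congrArg (fun m => (ConcreteCategory.hom m) c) key
  refine ⟨Over.homMk h0 (ext_of_isAffine ?_), hc⟩
  have e := Scheme.ΓSpecIso_inv_naturality (CommRingCat.ofHom φ)
  rw [← cancel_epi (Scheme.ΓSpecIso (CommRingCat.of k)).inv]
  show _ ≫ (h0 ≫ Spec.map (CommRingCat.ofHom φ)).appTop = _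
  rw [Scheme.Hom.comp_appTop, ← reassoc_of% e, key]
  exact CommRingCat.hom_ext hf

theorem fn_injective {A : Type u} [CommRing A] (φ : k →+* A) : Function.Injective (fn φ) :=
  fun x y h => by simpa using congrArg (Scheme.ΓSpecIso (CommRingCat.of A)).hom.hom h

variable {K : Type u} [Field K] (φ : k →+* K)

theorem algX_ne_zero : algebraMap (PowerSeries K) (Frac K) PowerSeries.X ≠ 0 :=
  (map_ne_zero_iff _ (IsFractionRing.injective _ _)).mpr PowerSeries.X_ne_zero

theorem tInf_ne_zero : tInf K ≠ 0 := inv_ne_zero algX_ne_zero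

theorem struct_kPt {A : Type u} [CommRing A] (ψ : k →+* A) : struct (kPt ψ) = (fn ψ).comp ψ :=
  congrArg CommRingCat.Hom.hom (Scheme.ΓSpecIso_inv_naturality (CommRingCat.ofHom ψ)).symm

theorem pL_appTop (c : K) : (jL φ ≫ pO φ).left.appTop (fn φ c) =
    fn (phiL φ) (algebraMap (PowerSeries K) (Frac K) (PowerSeries.C c)) := by
  refine (GmPts.appTop_comp_apply _ _ _).trans ?_
  rw [ptMap_appTop, ptMap_appTop]

theorem exists_fn_eq (v : Γ((kPt φ).left, ⊤)) : ∃ c, fn φ c = v :=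
  ⟨(Scheme.ΓSpecIso (CommRingCat.of K)).hom v, by simp⟩

variable {G X : Over (Spec (CommRingCat.of k))} [GrpObj G] [IsProper X.hom]

theorem exists_fixed_ga (e : Red.Ga (Spec (CommRingCat.of k)) ⟶ G) [IsMonHom e]
    (e' : G ⟶ Red.Ga (Spec (CommRingCat.of k))) (he : e' ≫ e = 𝟙 G)
    (a : AlgGrp.Action G X) (x₀ : 𝟙_ _ ⟶ X) :
    ∃ x : 𝟙_ (Over (Spec (CommRingCat.of k))) ⟶ X, a.IsFixedPt x := by
  refine exists_fixed a x₀ (Polynomial k) Polynomial.C
    (GrpSchLib.GaPts.ptOfFn (fn _ Polynomial.X) ≫ e) (fun T g => ?_)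
    (fun K _ φ => GrpSchLib.GaPts.ptOfFn (fn (phiL φ) (tInf K)) ≫ e) (fun K _ φ q hq => ?_) (fun K _ φ g => ?_)
  · obtain ⟨h, hh⟩ := exists_toKPt Polynomial.C T
      (Polynomial.eval₂RingHom (struct T) (Red.gaFn (g ≫ e'))) (RingHom.ext fun x => Polynomial.eval₂_C _ _)
    refine ⟨h, ?_⟩
    have : h ≫ GrpSchLib.GaPts.ptOfFn (fn _ Polynomial.X) = g ≫ e' :=
      GrpSchLib.GaPts.gaFn_injective (by
        show Red.gaFn _ = Red.gaFn _
        rw [GrpSchLib.GaPts.gaFn_comp, GrpSchLib.GaPts.gaFn_ptOfFn, hh]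
        exact Polynomial.eval₂_X _ _)
    rw [← Category.assoc, this, Category.assoc, he, Category.comp_id]
  · obtain ⟨f, hf, rfl, hfT⟩ := hq
    rw [← Category.assoc]
    congr 1
    refine GrpSchLib.GaPts.gaFn_injective ?_
    show Red.gaFn _ = Red.gaFn _
    rw [GrpSchLib.GaPts.gaFn_comp, GrpSchLib.GaPts.gaFn_ptOfFn, GrpSchLib.GaPts.gaFn_ptOfFn, ptMap_appTop, hfT]
  · obtain ⟨c, hc⟩ := exists_fn_eq φ (Red.gaFn (g ≫ e'))
    let d : PowerSeries K := 1 + PowerSeries.C c * PowerSeries.X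
    have hd : d.constantCoeff ≠ 0 := by simp [d]
    refine ⟨PowerSeries.X * d⁻¹, by simp, mul_ne_zero PowerSeries.X_ne_zero
      (fun h0 => hd (PowerSeries.inv_eq_zero.mp h0)), ?_⟩
    have hg : g = (g ≫ e') ≫ e := by rw [Category.assoc, he, Category.comp_id]
    rw [hg]
    simp only [← Category.assoc]
    refine (congrArg (fun m => m ≫ e) ?_).trans (MonObj.mul_comp _ _ e)
    refine GrpSchLib.GaPts.gaFn_injective ?_
    show Red.gaFn _ = Red.gaFn _
    rw [GrpSchLib.GaPts.gaFn_mul, GrpSchLib.GaPts.gaFn_comp, Category.assoc (jL φ ≫ pO φ) g e',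
      GrpSchLib.GaPts.gaFn_comp (jL φ ≫ pO φ), ← hc, GrpSchLib.GaPts.gaFn_ptOfFn, ptMap_appTop, pL_appTop,
      ← map_add]
    congr 1
    have hdi : algebraMap (PowerSeries K) (Frac K) d⁻¹ = (algebraMap (PowerSeries K) (Frac K) d)⁻¹ :=
      eq_inv_of_mul_eq_one_left (by rw [← map_mul, PowerSeries.inv_mul_cancel d hd, map_one])
    rw [subL_tInf, map_mul, hdi, _root_.mul_inv, _root_.inv_inv, map_add, map_one, map_mul, tInf, mul_add, _root_.mul_one,
      mul_left_comm, inv_mul_cancel₀ algX_ne_zero, _root_.mul_one, add_comm]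

theorem exists_fixed_gm (e : Red.Gm (Spec (CommRingCat.of k)) ⟶ G) [IsMonHom e]
    (e' : G ⟶ Red.Gm (Spec (CommRingCat.of k))) (he : e' ≫ e = 𝟙 G)
    (a : AlgGrp.Action G X) (x₀ : 𝟙_ _ ⟶ X) :
    ∃ x : 𝟙_ (Over (Spec (CommRingCat.of k))) ⟶ X, a.IsFixedPt x := by
  haveI : IsDomain (LaurentPolynomial k) := NoZeroDivisors.to_isDomain _
  let uT : Γ((kPt (LaurentPolynomial.C : k →+* LaurentPolynomial k)).left, ⊤)ˣ :=
    ((LaurentPolynomial.isUnit_T (R := k) 1).map (fn LaurentPolynomial.C)).unit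
  refine exists_fixed a x₀ (LaurentPolynomial k) LaurentPolynomial.C
    (GmPts.ptOfUnit uT ≫ e) (fun T g => ?_)
    (fun K _ φ => GmPts.ptOfUnit ((tInf_ne_zero (K := K)).isUnit.map (fn (phiL φ))).unit ≫ e)
    (fun K _ φ q hq => ?_) (fun K _ φ g => ?_)
  · obtain ⟨h, hh⟩ := exists_toKPt LaurentPolynomial.C T
      (LaurentPolynomial.eval₂ (struct T) (GmPts.unitOfPt (g ≫ e')))
      (RingHom.ext fun x => LaurentPolynomial.eval₂_C _ _ x)
    refine ⟨h, ?_⟩
    have : h ≫ GmPts.ptOfUnit uT = g ≫ e' :=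
      GmPts.gmFn_injective (by
        show Red.gmFn _ = Red.gmFn _
        rw [GmPts.gmFn_comp, GmPts.gmFn_ptOfUnit, IsUnit.unit_spec, hh, LaurentPolynomial.eval₂_T, zpow_one]
        rfl)
    rw [← Category.assoc, this, Category.assoc, he, Category.comp_id]
  · obtain ⟨f, hf, rfl, hfT⟩ := hq
    rw [← Category.assoc]
    congr 1
    refine GmPts.gmFn_injective ?_
    show Red.gmFn _ = Red.gmFn _
    rw [GmPts.gmFn_comp, GmPts.gmFn_ptOfUnit, GmPts.gmFn_ptOfUnit, IsUnit.unit_spec, IsUnit.unit_spec,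
      ptMap_appTop, hfT]
  · obtain ⟨c, hc⟩ := exists_fn_eq φ (Red.gmFn (g ≫ e'))
    have hc0 : c ≠ 0 := by
      have h1 : IsUnit (fn φ c) := hc ▸ GmPts.isUnit_gmFn _
      have h2 := h1.map (Scheme.ΓSpecIso (CommRingCat.of K)).hom.hom
      simp only [fn, Iso.inv_hom_id_apply] at h2
      exact h2.ne_zero
    have hb : (PowerSeries.C c⁻¹ * PowerSeries.X).constantCoeff = 0 := by simp
    refine ⟨PowerSeries.C c⁻¹ * PowerSeries.X, hb, mul_ne_zero
      ((map_ne_zero_iff _ PowerSeries.C_injective).mpr (inv_ne_zero hc0)) PowerSeries.X_ne_zero, ?_⟩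
    have hg : g = (g ≫ e') ≫ e := by rw [Category.assoc, he, Category.comp_id]
    rw [hg]
    simp only [← Category.assoc]
    refine (congrArg (fun m => m ≫ e) ?_).trans (MonObj.mul_comp _ _ e)
    refine GmPts.gmFn_injective ?_
    show Red.gmFn _ = Red.gmFn _
    rw [GmPts.gmFn_mul, GmPts.gmFn_comp, Category.assoc (jL φ ≫ pO φ) g e',
      GmPts.gmFn_comp (jL φ ≫ pO φ), ← hc, GmPts.gmFn_ptOfUnit, IsUnit.unit_spec, ptMap_appTop, pL_appTop,
      subL_tInf, ← map_mul]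
    congr 1
    rw [map_mul, _root_.mul_inv, tInf]
    congr 1
    refine inv_eq_of_mul_eq_one_right ?_
    rw [← map_mul, ← map_mul, inv_mul_cancel₀ hc0, map_one, map_one]

end Groth.Agent.GaFix
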